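import Groth.Agent.Dual6Lib.NormalOmega.Restrict
import Groth.Agent.Dual6Lib.OmegaS2.Scheme
import Groth.Agent.Dual6Lib.SmoothShriek
import Groth.Agent.DualLib.OmegaStalk
import Groth.Agent.Dual22Lib.Bottom
import Groth.Agent.CAlgMisc2.Reflexive
import Groth.Agent.RefHullLib.Hartogs
import Groth.Agent.CAlgH3.Serre
import Groth.Agent.EGA43.GeomIntegral.Dvr
import Groth.Agent.FlatMor12.GenericSmooth
import Groth.Agent.FlatMor12.ConnectedEtaleNhd
import Groth.Agent.GenSmoothLib.OmegaFree
import Groth.Agent.GenSmoothLib.SmoothDim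
import Groth.Agent.AlgSpLib.RelDimFormula
import Groth.Agent.Stk19b.EtaleDim
import Groth.Agent.OmegaAmple24.Euler
import Groth.Agent.AbCohLib.OmegaCoh
import Groth.Agent.SDiv28.OmegaFT
import Groth.Agent.Coherent.InternalHomAdj
import Groth.Agent.Surf15.HomShIso
import Groth.Agent.AmpleLib.CounitEpi

/-!
# The dualizing sheaf of a normal scheme over a perfect field
-/

set_option autoImplicit false
set_option backward.isDefEq.respectTransparency false
set_option linter.style.haveILetI false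
set_option synthInstance.maxHeartbeats 100000

universe u

open CategoryTheory CategoryTheory.Limits AlgebraicGeometry TopologicalSpace Opposite
open Groth.Agent

attribute [local instance] HasDerivedCategory.standard

namespace Groth.Agent.Dual6Lib.NormalOmega

/-- The double sheaf Hom into the structure sheaf is the double dual. -/
theorem nonempty_sheafHom_ddual {X : Scheme.{u}} (W : X.Modules) [DCoh.HasSheafHom W]
    [DCoh.HasSheafHom ((DCoh.sheafHom W).obj (Coh.structureModule X))] :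
    Nonempty ((DCoh.sheafHom ((DCoh.sheafHom W).obj (Coh.structureModule X))).obj (Coh.structureModule X) ≅
      RefHull.ddual W) := by
  obtain ⟨h1⟩ := Surf15.nonempty_homSh_iso W (Coh.structureModule X)
  let e1 : (DCoh.sheafHom W).obj (Coh.structureModule X) ≅ RefHull.dual W :=
    (Coherent.sheafHomIso W).app (Coh.structureModule X) ≪≫ h1.symm
  obtain ⟨h2⟩ := Surf15.nonempty_homSh_iso ((DCoh.sheafHom W).obj (Coh.structureModule X)) (Coh.structureModule X)
  exact ⟨(Coherent.sheafHomIso _).app (Coh.structureModule X) ≪≫ h2.symm ≪≫ RefFun.dualIso e1⟩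

/-- An exterior power of a coherent module is coherent. -/
theorem isCoh_of_isExtPow {X : Scheme.{u}} {i : ℕ} {E L : X.Modules} (hE : Coh.IsCoh E)
    (hL : ExtPow.IsExtPow i E L) : Coh.IsCoh L := by
  haveI : Coh.IsQCoh E := hE.1
  obtain ⟨e⟩ := KvbLam28.exists_iso_of_isExtPow (ExtPowEx28.isExtPow_ext i E) hL
  refine (Coherent.isCoh_iff_finite_sections L).2
    ⟨(SheafOfModules.isQuasicoherent X.ringCatSheaf).prop_of_iso e (ExtPowEx28.isQCoh_ext i E), fun U hU => ?_⟩
  obtain ⟨φ, -⟩ := hL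
  haveI : Module.Finite Γ(X, U) (E.val.obj (op U)) := ((Coherent.isCoh_iff_finite_sections E).1 hE).2 U hU
  exact Module.Finite.equiv (φ ⟨U, hU⟩).symm

variable [∀ (U V : Scheme.{u}) (j : U ⟶ V) [IsOpenImmersion j], PreservesFiniteLimits (Scheme.Modules.restrictFunctor j)]

/-- **The dualizing sheaf of a normal scheme over a perfect field is the bidual of the top differentials.** -/
theorem nonempty_iso {k : Type u} [Field k] [PerfectField k] {X : Scheme.{u}} (p : X ⟶ Spec (CommRingCat.of k))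
    [LocallyOfFiniteType p] [IsSeparated p] [QuasiCompact p] [ConnectedSpace X] (hX : Pi1.IsNormalScheme X)
    (n : ℕ) (hdim : topologicalKrullDim X = (n : WithBot ℕ∞))
    (c : DEt.Compactification p) [DCoh.HasRpush c.fbar] (hc : DCoh.RpushPreservesQCoh c.fbar)
    (a : DCoh.DQCoh (Spec (CommRingCat.of k)) ⥤ DCoh.DQCoh c.Xbar) (adj : DCoh.RpushQ c.fbar hc ⊣ a)
    (O : DCoh.DQCoh (Spec (CommRingCat.of k)))
    (hO : Nonempty (O.obj ≅ DCoh.inD (Spec (CommRingCat.of k)) (Coh.structureModule (Spec (CommRingCat.of k)))))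
    {W : X.Modules} (hW : ExtPow.IsExtPow n (Omega.sheaf p) W) :
    Nonempty (DCoh.HD ((Dual3.shriekC c a).obj O) (-(n : ℤ)) ≅ RefHull.ddual W) := by
  haveI : ∀ (S : CommRingCat.{u}), PreservesFiniteLimits (tilde.functor S) :=
    AffSchLib.preservesFiniteLimits_tilde
  haveI : IsNoetherian (Spec (CommRingCat.of k)) := {}
  haveI : IsLocallyNoetherian X := LocallyOfFiniteType.isLocallyNoetherian p
  haveI hI : IsIntegral X := EGA43.GeomIntegral.isIntegral_of_isDomain_stalk fun x => (hX x).1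
  haveI : IsOpenImmersion c.j := c.isOpenImmersion
  haveI : IsProper c.fbar := c.isProper
  haveI : IsLocallyNoetherian c.Xbar := LocallyOfFiniteType.isLocallyNoetherian c.fbar
  let G := (Dual3.shriekC c a).obj O
  let F := DCoh.HD G (-(n : ℤ))
  -- coherence
  have hGbar := DualLib.OmegaStalk.isDualizingSch_over_field k c.Xbar c.fbar hc a adj O hO
  have hG : Dual2.IsDualizingSch X G := fun A _ j _ => by
    obtain ⟨ω, hω, ⟨e⟩⟩ := hGbar A (j ≫ c.j)
    obtain ⟨r⟩ := DCat.PerfLocal.rd_comp j c.j (a.obj O).obj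
    exact ⟨ω, hω, ⟨r.symm ≪≫ e⟩⟩
  have hFc : Coh.IsCoh F := DualLib.OmegaStalk.isCoh_HD hG _
  -- dimensions
  have hld : ∀ x : X, FlatMor.localDim X x = (n : WithBot ℕ∞) := fun x =>
    (GenSmoothLib.localDim_eq_topologicalKrullDim p x).trans hdim
  have htr : ∀ ξ : X, Dual3.resTrdeg p ξ ≤ (n : Cardinal.{u}) := fun ξ => by
    have hfin : Dual3.resTrdeg p ξ < Cardinal.aleph0 := FlatMor12.trdeg_residueFieldMap_lt p ξ
    obtain ⟨m, hm⟩ := Cardinal.lt_aleph0.1 hfin
    have h := AlgSpLib.fibreDimAt_eq_stalk_add_trdeg p ξ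
    rw [GenSmoothLib.fibreDimAt_toField p, hld ξ, hm, map_natCast] at h
    rw [hm, Nat.cast_le]
    have h0 := ringKrullDim_nonneg_of_nontrivial (R := (p.fiber (p ξ)).presheaf.stalk (p.asFiber ξ))
    have h2 : ((m : ℕ∞) : WithBot ℕ∞) ≤ ((n : ℕ∞) : WithBot ℕ∞) :=
      (le_add_of_nonneg_left h0).trans h.ge
    exact_mod_cast h2
  have ek : ∀ y : Spec (CommRingCat.of k), Nonempty (k ≃+* (Spec (CommRingCat.of k)).presheaf.stalk y) := fun y =>
    ⟨(IsLocalization.atUnits k y.asIdeal.primeCompl fun z hz =>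
      isUnit_iff_ne_zero.2 fun h => hz (by rw [h]; exact zero_mem _)).toRingEquiv.trans
      (StructureSheaf.stalkIso k y).toRingEquiv⟩
  have hk : ∀ y : Spec (CommRingCat.of k),
      LocCoh.IsCohenMacaulayLocalRing ((Spec (CommRingCat.of k)).presheaf.stalk y) := fun y => by
    obtain ⟨e⟩ := ek y
    exact CAlgH3.isCohenMacaulayLocalRing_of_ringEquiv (h := CAlgH3.isCohenMacaulayLocalRing_of_regular k) e
  -- reflexivity
  have hFr : ∀ x : X, RefHull.IsReflexiveAt F x := fun x => by
    haveI : IsDomain (X.presheaf.stalk x) := (hX x).1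
    haveI : IsIntegrallyClosed (X.presheaf.stalk x) := (hX x).2
    haveI := AssSch12.finite_stalk hFc x
    obtain ⟨hbd, hS⟩ := OmegaS2.shriek_over_cm p c hc a adj O hO x n (hk _) fun _ _ _ ξ _ => htr ξ
    refine (CAlgMisc2.isReflexive_iff_normal).2 ⟨?_, hS⟩
    obtain ⟨B, _, j, _, ω, y, rfl, hω, ⟨e⟩⟩ := DualLib.OmegaStalk.exists_chart hG x
    haveI := hω.isNoetherianRing
    obtain ⟨φ, E, hE⟩ := Dual22Lib.stalk_semilinear j e y (-(n : ℤ))
    haveI : IsDomain (Localization.AtPrime y.asIdeal) := φ.symm.toMulEquiv.isDomain _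
    haveI := (Dual22Lib.bottom_local hω y (-(n : ℤ)) fun i hi hs =>
      absurd (hbd i ((Dual22Lib.nontrivial_stalk_iff j e y i).2 hs)) (not_le.2 hi)).2 inferInstance
    exact Dual22Lib.isTorsionFree_of_semilinear φ E hE
  have hWc : Coh.IsCoh W := isCoh_of_isExtPow ⟨MorProj.isQCoh_omega p, SDiv28.OmegaFT.isFT_omega p⟩ hW
  -- the smooth locus
  haveI : LocallyOfFinitePresentation p := inferInstance
  let U : X.Opens := p.smoothLocus
  haveI : IsDominant p := ⟨by
    rw [denseRange_iff_closure_range, Set.eq_univ_iff_forall]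
    exact fun q => subset_closure ⟨genericPoint X, Subsingleton.elim (α := PrimeSpectrum k) _ _⟩⟩
  haveI : PerfectField (Spec (CommRingCat.of k)).functionField := by
    obtain ⟨e⟩ := ek (genericPoint (Spec (CommRingCat.of k)))
    exact PerfectField.of_ringEquiv (K := k) e
  have hU1 : ∀ x : X, ringKrullDim (X.presheaf.stalk x) ≤ 1 → x ∈ U := fun x hx => by
    haveI : IsDomain (X.presheaf.stalk x) := (hX x).1
    haveI : IsIntegrallyClosed (X.presheaf.stalk x) := (hX x).2
    haveI := CAlgH3.isRegularLocalRing_of_normal_dim_le_one hx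
    exact FlatMor12.GenericSmooth.mem_smoothLocus_of_regular p x (Subsingleton.elim (α := PrimeSpectrum k) _ _)
  have hdepth : ∀ x : X, x ∉ U → (2 : ℕ∞) ≤ LocCoh.depth (X.presheaf.stalk x) (X.presheaf.stalk x) := fun x hx => by
    haveI : IsDomain (X.presheaf.stalk x) := (hX x).1
    haveI : IsIntegrallyClosed (X.presheaf.stalk x) := (hX x).2
    exact CAlgH3.two_le_depth_of_normal (Order.succ_le_of_lt (not_le.1 fun h => hx (hU1 x h)))
  haveI : Nonempty U.toScheme := ⟨⟨genericPoint X, hU1 _ ((ringKrullDim_eq_zero_of_isField RefHullLib.isField_stalk_genericPoint).le.trans zero_le_one)⟩⟩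
  haveI : IsIntegral U.toScheme := isIntegral_of_isOpenImmersion U.ι
  let q : U.toScheme ⟶ Spec (CommRingCat.of k) := U.ι ≫ p
  haveI : Smooth q := FlatMor12.ConnectedEtaleNhd.smooth_smoothLocus_ι p le_rfl
  haveI : SmoothOfRelativeDimension n q := GenSmoothLib.smoothOfRelativeDimension_toField q
    (GenSmoothLib.topologicalKrullDim_eq_of_localDim q _ fun z => (Stk19b.EtaleDim.localDim_eq U.ι z).trans (hld _))
  haveI : IsLocallyNoetherian U.toScheme := LocallyOfFiniteType.isLocallyNoetherian q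
  haveI : QuasiCompact q := inferInstance
  haveI : CompactSpace X := QuasiCompact.compactSpace_of_compactSpace p
  let c' : DEt.Compactification q :=
    { Xbar := c.Xbar, j := U.ι ≫ c.j, fbar := c.fbar, isOpenImmersion := inferInstance
      isProper := inferInstance, fac := by rw [Category.assoc, c.fac] }
  haveI : DCoh.HasRpush c'.fbar := ‹DCoh.HasRpush c.fbar›
  obtain ⟨om⟩ := OmegaAmple24.nonempty_omega_restrict p U
  have hL : ExtPow.IsExtPow n (Omega.sheaf q) (W.restrict U.ι) :=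
    AbCohLib.isExtPow_congr ((Scheme.Modules.restrictFunctorIsoPullback U.ι).app _ ≪≫ om) (isExtPow_restrict U hW)
  obtain ⟨s⟩ := SmoothShriek.nonempty_iso (f := q) n c' hc a adj O hO hL
  obtain ⟨r⟩ := DCat.PerfLocal.rd_comp U.ι c.j (a.obj O).obj
  let eU : F.restrict U.ι ≅ W.restrict U.ι :=
    (DCat.SuppOpen.hdMapIso (Scheme.Modules.restrictFunctor U.ι) G (-(n : ℤ))).symm ≪≫
      (DerivedCategory.homologyFunctor _ (-(n : ℤ))).mapIso (r.symm ≪≫ s) ≪≫
      ((DerivedCategory.homologyFunctor U.toScheme.Modules 0).shiftIso (n : ℤ) (-(n : ℤ)) 0 (by omega)).app _ ≪≫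
      (DerivedCategory.singleFunctorCompHomologyFunctorIso U.toScheme.Modules 0).app _
  have hWr : ∀ y ∈ U, RefHull.IsReflexiveAt W y := fun y hy => by
    refine (RefHullLib.isReflexiveAt_restrict_iff U.ι W ⟨y, hy⟩).1 ?_
    haveI : Module.IsReflexive (U.toScheme.presheaf.stalk ⟨y, hy⟩) ((F.restrict U.ι).presheaf.stalk ⟨y, hy⟩) :=
      (RefHullLib.isReflexiveAt_restrict_iff U.ι F ⟨y, hy⟩).2 (hFr y)
    let e' : (F.restrict U.ι).presheaf.stalk ⟨y, hy⟩ ≃ₗ[U.toScheme.presheaf.stalk ⟨y, hy⟩]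
        (W.restrict U.ι).presheaf.stalk ⟨y, hy⟩ :=
      LinearEquiv.ofBijective (RefHull.stalkMapₗ eU.hom ⟨y, hy⟩)
        (ConcreteCategory.bijective_of_isIso ((DerSch.stalkFunctor U.toScheme ⟨y, hy⟩).map eU.hom))
    exact Module.equiv e'
  haveI := RefHullLib.isIso_restrict_map (RefHull.bidualMap W) U fun y hy =>
    (RefHullLib.bijective_stalk_bidualMap_iff hWc y).2 (hWr y hy)
  haveI := RefHullLib.isIso_restrictUnit U hdepth hFc hFr
  haveI := RefHullLib.isIso_restrictUnit U hdepth (RefHullLib.isCoh_ddual hWc) (RefHullLib.isReflexiveAt_ddual hWc)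
  exact ⟨asIso ((Scheme.Modules.restrictAdjunction U.ι).unit.app F) ≪≫
    (Scheme.Modules.pushforward U.ι).mapIso
      (eU ≪≫ asIso ((Scheme.Modules.restrictFunctor U.ι).map (RefHull.bidualMap W))) ≪≫
    (asIso ((Scheme.Modules.restrictAdjunction U.ι).unit.app (RefHull.ddual W))).symm⟩

end Groth.Agent.Dual6Lib.NormalOmega
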