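import Groth.Prelude.Def_ExtPow2
import Groth.Agent.ExtPowEx28.Pull

/-!
# Exterior powers and restriction to open subschemes
-/

set_option autoImplicit false
set_option backward.isDefEq.respectTransparency false

universe u

open CategoryTheory AlgebraicGeometry Opposite

namespace Groth.Agent.Dual6Lib.NormalOmega

/-- An isomorphism with an exterior power does not depend on the way the module structures are presented. -/
theorem exists_transport {R : Type u} [CommRing R] {L E : Type u} [AddCommGroup L] [AddCommGroup E] (i : ℕ)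
    (mL : Module R L) (mL' : Module R L) (mE : Module R E) (mE' : Module R E) (hL : mL = mL') (hE : mE = mE')
    (φ : @LinearEquiv R R _ _ (RingHom.id R) (RingHom.id R) _ _ L (↥(@ExteriorAlgebra.exteriorPower R _ i E _ mE)) _ _ mL _) :
    ∃ φ' : @LinearEquiv R R _ _ (RingHom.id R) (RingHom.id R) _ _ L (↥(@ExteriorAlgebra.exteriorPower R _ i E _ mE')) _ _ mL' _,
      ∀ e : Fin i → E, φ'.symm (@exteriorPower.ιMulti R _ i E _ mE' e) =
        φ.symm (@exteriorPower.ιMulti R _ i E _ mE e) := by
  subst hL hE
  exact ⟨φ, fun _ => rfl⟩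

/-- Restricting to an open subscheme does not change the module structure on sections. -/
theorem secModule_restrict {X : Scheme.{u}} (U : X.Opens) (E : X.Modules) (V : U.toScheme.Opens) :
    ExtPow.secModule E (U.ι ''ᵁ V) = ExtPow.secModule (E.restrict U.ι) V := by
  refine Module.ext' _ _ fun r m => ?_
  show r • (show Γ(E, U.ι ''ᵁ V) from m) = ((U.ι.appIso V).inv r) • (show Γ(E, U.ι ''ᵁ V) from m)
  rw [Scheme.Opens.ι_appIso]
  rfl

/-- Restriction of an exterior power to an open subscheme. -/
theorem isExtPow_restrict {X : Scheme.{u}} (U : X.Opens) {i : ℕ} {E L : X.Modules}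
    (h : ExtPow.IsExtPow i E L) : ExtPow.IsExtPow i (E.restrict U.ι) (L.restrict U.ι) := by
  obtain ⟨φ, hφ⟩ := h
  let A : U.toScheme.affineOpens → X.affineOpens := fun V => ⟨U.ι ''ᵁ V.1, V.2.image_of_isOpenImmersion U.ι⟩
  choose φ' hφ' using fun V : U.toScheme.affineOpens =>
    exists_transport i _ _ _ _ (secModule_restrict U L V.1) (secModule_restrict U E V.1) (φ (A V))
  refine ⟨φ', fun V W hWV e => ?_⟩
  refine (congrArg _ (hφ' V e)).trans ?_
  refine (hφ (A V) (A W) (U.ι.image_mono hWV) e).trans ?_
  exact (hφ' W _).symm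

end Groth.Agent.Dual6Lib.NormalOmega
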